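import Groth.Agent.Etcore.DerLES

/-!
# Degenerate Leray comparison isomorphisms for a composite of left exact functors

* `comp_of_acyc`      : `R^n G (F X) ≅ R^n (F ⋙ G) X` if `X` is `F`-acyclic.
* `comp_of_acyc_all`  : `R^n (F ⋙ G) X ≅ G (R^n F X)` if all `R^q F X` are `G`-acyclic.

(`F` sends injectives to `G`-acyclic objects.)
-/

set_option autoImplicit false

open CategoryTheory CategoryTheory.Limits

namespace K44.DegLeray

open Groth.Agent.Etcore

universe v₁ v₂ v₃ u₁ u₂ u₃

variable {A : Type u₁} [Category.{v₁} A] [Abelian A] [EnoughInjectives A]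
  {B : Type u₂} [Category.{v₂} B] [Abelian B] [EnoughInjectives B]
  {C : Type u₃} [Category.{v₃} C] [Abelian C]

/-- The short exact sequence `0 → X → I → I / X → 0`. -/
noncomputable abbrev injSeq (X : A) : ShortComplex A :=
  ShortComplex.mk (Injective.ι X) (cokernel.π (Injective.ι X)) (cokernel.condition _)

theorem shortExact_injSeq (X : A) : (injSeq X).ShortExact :=
  { exact := ShortComplex.exact_cokernel _
    mono_f := inferInstanceAs (Mono (Injective.ι X))
    epi_g := inferInstanceAs (Epi (cokernel.π (Injective.ι X))) }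

omit [EnoughInjectives B] in
theorem image_ses₁ {M N : B} (f : M ⟶ N) :
    (ShortComplex.mk (kernel.ι f) (Abelian.factorThruImage f)
      (by rw [← cancel_mono (Abelian.image.ι f)]; simp)).ShortExact where
  exact := by
    refine ShortComplex.exact_of_f_is_kernel _ ?_
    refine KernelFork.IsLimit.ofι' _ _ fun k hk => ?_
    have hk' : k ≫ f = 0 := by
      have := congr_arg (· ≫ Abelian.image.ι f) hk
      simpa using this
    exact ⟨kernel.lift f k hk', kernel.lift_ι f k hk'⟩
  mono_f := by dsimp; infer_instance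
  epi_g := by dsimp; infer_instance

omit [EnoughInjectives B] in
theorem image_ses₂ {M N : B} (f : M ⟶ N) :
    (ShortComplex.mk (Abelian.image.ι f) (cokernel.π f) (by simp)).ShortExact where
  exact := ShortComplex.exact_of_f_is_kernel _ (kernelIsKernel (cokernel.π f))
  mono_f := by dsimp; infer_instance
  epi_g := by dsimp; infer_instance

omit [EnoughInjectives A] [EnoughInjectives B] in
/-- A left exact functor preserves short exact sequences as soon as the last map stays epi. -/
theorem map_shortExact (F : A ⥤ B) [F.Additive] [PreservesFiniteLimits F] {S : ShortComplex A}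
    (hS : S.ShortExact) (he : Epi (F.map S.g)) : (S.map F).ShortExact where
  exact := hS.exact.map_of_mono_of_preservesKernel F hS.mono_f inferInstance
  mono_f := by have := hS.mono_f; exact inferInstanceAs (Mono (F.map S.f))
  epi_g := he

variable (F : A ⥤ B) [F.Additive] [PreservesFiniteLimits F]
  (G : B ⥤ C) [G.Additive] [PreservesFiniteLimits G]

variable (hF : ∀ I : A, Injective I → DerLES.Acyc G (F.obj I))

include hF in
/-- `R^n G (F X) ≅ R^n (F ⋙ G) X` if `X` is `F`-acyclic. -/
theorem comp_of_acyc (n : ℕ) : ∀ X : A, DerLES.Acyc F X →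
    Nonempty ((G.rightDerived n).obj (F.obj X) ≅ ((F ⋙ G).rightDerived n).obj X) := by
  have hFG : PreservesFiniteLimits (F ⋙ G) := comp_preservesFiniteLimits F G
  induction n with
  | zero =>
    intro X _
    exact ⟨(G.rightDerivedZeroIsoSelf.app (F.obj X)) ≪≫ ((F ⋙ G).rightDerivedZeroIsoSelf.app X).symm⟩
  | succ n ih =>
    intro X hX
    have hS := shortExact_injSeq X
    have hinj : Injective (injSeq X).X₂ := inferInstanceAs (Injective (Injective.under X))
    have hFS : ((injSeq X).map F).ShortExact :=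
      map_shortExact F hS (DerLES.epi_map_g F hS (hX 0))
    have hQ : DerLES.Acyc F (injSeq X).X₃ := DerLES.acyc_X₃ F hS hX (DerLES.acyc_of_injective F _)
    cases n with
    | zero =>
      obtain ⟨e1⟩ := DerLES.nonempty_iso_one_of_injective (F ⋙ G) hS
      obtain ⟨e2⟩ := DerLES.nonempty_iso_one G hFS (hF _ hinj 0)
      exact ⟨e2 ≪≫ e1.symm⟩
    | succ n =>
      obtain ⟨e1⟩ := DerLES.nonempty_iso_of_injective (F ⋙ G) hS n
      obtain ⟨e2⟩ := DerLES.nonempty_iso_succ G hFS (hF _ hinj) n
      obtain ⟨e3⟩ := ih _ hQ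
      exact ⟨e2 ≪≫ e3 ≪≫ e1.symm⟩

omit [EnoughInjectives A] in
/-- `coker (G f) ≅ G (coker f)` if `ker f` and `im f` have vanishing `R^1 G`. -/
theorem nonempty_cokernel_iso {M N : B} (f : M ⟶ N)
    (hk : IsZero ((G.rightDerived 1).obj (kernel f)))
    (hi : IsZero ((G.rightDerived 1).obj (Abelian.image f))) :
    Nonempty (cokernel (G.map f) ≅ G.obj (cokernel f)) := by
  have h1 : Epi (G.map (Abelian.factorThruImage f)) := DerLES.epi_map_g G (image_ses₁ f) hk
  have h2 : Epi (G.map (cokernel.π f)) := DerLES.epi_map_g G (image_ses₂ f) hi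
  have hS := map_shortExact G (image_ses₂ f) h2
  have e1 : cokernel (G.map f) ≅ cokernel (G.map (Abelian.image.ι f)) :=
    cokernelIsoOfEq (by rw [← G.map_comp, Abelian.image.fac]) ≪≫
      cokernelEpiComp (G.map (Abelian.factorThruImage f)) (G.map (Abelian.image.ι f))
  exact ⟨e1 ≪≫ (cokernelIsCokernel _).coconePointUniqueUpToIso hS.gIsCokernel⟩

include hF in
/-- `R^n (F ⋙ G) X ≅ G (R^n F X)` if all `R^q F X` are `G`-acyclic. -/
theorem comp_of_acyc_all (n : ℕ) : ∀ X : A, DerLES.Acyc G (F.obj X) →
    (∀ q : ℕ, DerLES.Acyc G ((F.rightDerived (q + 1)).obj X)) →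
    Nonempty (((F ⋙ G).rightDerived n).obj X ≅ G.obj ((F.rightDerived n).obj X)) := by
  have hFG : PreservesFiniteLimits (F ⋙ G) := comp_preservesFiniteLimits F G
  induction n with
  | zero =>
    intro X _ _
    exact ⟨((F ⋙ G).rightDerivedZeroIsoSelf.app X) ≪≫ G.mapIso (F.rightDerivedZeroIsoSelf.app X).symm⟩
  | succ n ih =>
    intro X hX hq
    have hS := shortExact_injSeq X
    have hinj : Injective (injSeq X).X₂ := inferInstanceAs (Injective (Injective.under X))
    obtain ⟨e1⟩ := DerLES.nonempty_iso_one_of_injective F hS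
    -- the kernel, image and cokernel of `F I → F Q` are `G`-acyclic
    have hk : DerLES.Acyc G (kernel (F.map (injSeq X).g)) := by
      have hex : ((injSeq X).map F).Exact :=
        hS.exact.map_of_mono_of_preservesKernel F hS.mono_f inferInstance
      have hm : Mono ((injSeq X).map F).f := by
        have := hS.mono_f; exact inferInstanceAs (Mono (F.map (injSeq X).f))
      exact hX.of_iso G (hex.fIsKernel.conePointUniqueUpToIso (limit.isLimit _))
    have hi : DerLES.Acyc G (Abelian.image (F.map (injSeq X).g)) :=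
      DerLES.acyc_X₃ G (image_ses₁ (F.map (injSeq X).g)) hk (hF _ hinj)
    have hc : DerLES.Acyc G (cokernel (F.map (injSeq X).g)) := (hq 0).of_iso G e1
    have hFQ : DerLES.Acyc G (F.obj (injSeq X).X₃) :=
      DerLES.acyc_X₂ G (image_ses₂ (F.map (injSeq X).g)) hi hc
    have hQq : ∀ q : ℕ, DerLES.Acyc G ((F.rightDerived (q + 1)).obj (injSeq X).X₃) := by
      intro q
      obtain ⟨e⟩ := DerLES.nonempty_iso_of_injective F hS q
      exact (hq (q + 1)).of_iso G e
    cases n with
    | zero =>
      obtain ⟨e2⟩ := DerLES.nonempty_iso_one_of_injective (F ⋙ G) hS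
      obtain ⟨e3⟩ := nonempty_cokernel_iso G (F.map (injSeq X).g) (hk 0) (hi 0)
      exact ⟨e2 ≪≫ e3 ≪≫ G.mapIso e1.symm⟩
    | succ n =>
      obtain ⟨e2⟩ := DerLES.nonempty_iso_of_injective (F ⋙ G) hS n
      obtain ⟨e3⟩ := ih _ hFQ hQq
      obtain ⟨e4⟩ := DerLES.nonempty_iso_of_injective F hS n
      exact ⟨e2 ≪≫ e3 ≪≫ G.mapIso e4.symm⟩

end K44.DegLeray
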