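import Groth.Agent.Ega3B.Devissage
import Groth.Agent.CohqB.DevGeom
import Groth.Agent.CohqB.DevSimple
import Groth.Agent.CohqB.LocalQC
import Groth.Agent.CurvesB.UnitCoh
import Groth.Agent.CohqA.AffPush
import Groth.Agent.CycB.LFCoprod2
import Groth.Agent.CycB.CohProp
import Groth.Prelude.Def_ClSub2
import Mathlib.Algebra.Module.Torsion.Basic
import Mathlib.RingTheory.SimpleModule.Isotypic

/-!
# Devissage for classes of coherent modules closed under direct summands

* `devissage_of_small` : variant of `Ega3B.Devissage.devissage` where the simple module attached to `y` may be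
  constructed using that `P` holds for all coherent modules supported in a proper part of the closure of `y`.
* `exists_correspondence_of_linearEquiv` : coherent modules with isomorphic (Artinian) stalks at `y` are in
  correspondence.
* `linearEquiv_of_killed` : a finite module killed by the maximal ideal is a power of any simple module.
-/

set_option autoImplicit false
universe u

open CategoryTheory CategoryTheory.Limits AlgebraicGeometry Opposite TopologicalSpace
open AlgebraicGeometry.Scheme.Modules

namespace K44.DevSummand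

open Groth.Agent Groth.Agent.Fdesc.QCohStalk Groth.Agent.Ega3B.DevHom Groth.Agent.CycB.StalkExact
  Groth.Agent.Ega3B.DevStep Groth.Agent.Ega3B.DevQC Groth.Agent.Ega3B.Devissage

variable {X : Scheme.{u}}

/-- **Devissage**, with the modules `G` depending on the previous steps. -/
theorem devissage_of_small [IsNoetherian X] (T : Set X) (hT : IsClosed T) (P : X.Modules → Prop)
    (h0 : ∀ M, IsZero M → P M) (h : TwoOfThree T P)
    (hgen : ∀ y ∈ T, (∀ M : X.Modules, Coh.IsCoh M → CohB1.support M ⊆ closure {y} →
        y ∉ CohB1.support M → P M) →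
      ∃ G : X.Modules, Coh.IsCoh G ∧ P G ∧ CohB1.support G ⊆ closure {y} ∧
      IsSimpleModule (X.presheaf.stalk y) (G.presheaf.stalk y))
    (F : X.Modules) (hF : Coh.IsCoh F) (hFT : CohB1.support F ⊆ T) : P F := by
  suffices claim : ∀ (Y : Closeds X), (Y : Set X) ⊆ T → ∀ F : X.Modules, Coh.IsCoh F →
      CohB1.support F ⊆ Y → P F from claim ⟨T, hT⟩ subset_rfl F hF hFT
  intro Y
  induction Y using WellFoundedLT.induction with
  | _ Y ih =>
    intro hYT F hF hFY
    rcases (Y : Set X).eq_empty_or_nonempty with hYe | hYne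
    · exact h0 F (isZero_of_support_eq_empty (Set.subset_empty_iff.mp (hFY.trans hYe.le)))
    · obtain ⟨y, hyY, hylow⟩ := exists_generic (Y : Set X) Y.isClosed hYne
      have hcl : closure {y} ⊆ (Y : Set X) :=
        closure_minimal (Set.singleton_subset_iff.mpr hyY) Y.isClosed
      have hsmall : ∀ M : X.Modules, Coh.IsCoh M → CohB1.support M ⊆ Y → y ∉ CohB1.support M →
          P M := by
        intro M hM hMY hyM
        refine ih ⟨CohB1.support M, isClosed_support hM⟩ ?_ (hMY.trans hYT) M hM subset_rfl
        refine lt_of_le_of_ne hMY fun heq => hyM ?_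
        have : (CohB1.support M : Set X) = Y := congr_arg (fun Z : Closeds X => (Z : Set X)) heq
        rw [this]
        exact hyY
      obtain ⟨G, hG, hPG, hGs, hs⟩ := hgen y (hYT hyY)
        (fun M hM hMs hyM => hsmall M hM (hMs.trans hcl) hyM)
      exact one_step (Y : Set X) P (fun S hS h1 h2 h3 h4 => h S hS h1 h2 h3 (h4.trans hYT)) y hylow
        hsmall G hG (hGs.trans hcl) hPG hs F hF hFY

/-- Modules with isomorphic Artinian stalks at `y` are in correspondence. -/
theorem exists_correspondence_of_linearEquiv [IsNoetherian X] (y : X) (G F : X.Modules) (hG : Coh.IsCoh G)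
    (hF : Coh.IsCoh F) (e : G.presheaf.stalk y ≃ₗ[X.presheaf.stalk y] F.presheaf.stalk y)
    (hart : IsArtinian (X.presheaf.stalk y) (F.presheaf.stalk y)) :
    ∃ (H : X.Modules) (a : H ⟶ G) (b : H ⟶ F), Coh.IsCoh H ∧
      CohB1.support H ⊆ CohB1.support G ∪ CohB1.support F ∧
      Function.Bijective (stalkLin a y) ∧ Function.Bijective (stalkLin b y) := by
  obtain ⟨U, hU, hy, -⟩ := exists_isAffineOpen_mem_and_subset (X := X) (x := y) (U := ⊤) trivial
  have hfinG := finite_sections hG hU
  have hfinF := finite_sections hF hU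
  have : IsNoetherianRing Γ(X, U) := IsLocallyNoetherian.component_noetherian ⟨U, hU⟩
  let p := (hU.primeIdealOf ⟨y, hy⟩).asIdeal
  let _ := stalkModule G y hy
  let _ := stalkModule F y hy
  let _ : Algebra Γ(X, U) (X.presheaf.stalk y) := (X.presheaf.germ U y hy).hom.toAlgebra
  have : IsScalarTower Γ(X, U) (X.presheaf.stalk y) (G.presheaf.stalk y) :=
    .of_algebraMap_smul fun _ _ => rfl
  have : IsScalarTower Γ(X, U) (X.presheaf.stalk y) (F.presheaf.stalk y) :=
    .of_algebraMap_smul fun _ _ => rfl
  have hlocG := isLocalizedModule_germ G hU hG.1 y hy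
  have hlocF := isLocalizedModule_germ F hU hF.1 y hy
  have hring : IsLocalization.AtPrime (X.presheaf.stalk y) p :=
    hU.isLocalization_stalk ⟨y, hy⟩
  have : Module.FinitePresentation Γ(X, U) Γ(G, U) := Module.finitePresentation_of_finite _ _
  obtain ⟨ψ, s, hψ⟩ := Module.FinitePresentation.exists_lift_of_isLocalizedModule p.primeCompl
    (germₗ F y hy) ((e.toLinearMap.restrictScalars Γ(X, U)) ∘ₗ (germₗ G y hy))
  have hu : IsUnit (algebraMap Γ(X, U) (X.presheaf.stalk y) s) :=
    IsLocalization.map_units (X.presheaf.stalk y) s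
  obtain ⟨a, ha, hb⟩ := exists_correspondence hU y hy G F hG.1 ψ
    (algebraMap Γ(X, U) (X.presheaf.stalk y) s • e.toLinearMap) (by
      intro v w hvw
      simp only [LinearMap.smul_apply] at hvw
      exact e.injective (hu.smul_left_cancel.mp hvw)) (by
      intro m
      have := congr($hψ m)
      simp only [LinearMap.comp_apply, LinearMap.smul_apply, LinearMap.coe_restrictScalars] at this ⊢
      refine Eq.trans ?_ this.symm
      rw [algebraMap_smul]
      rfl)
  refine ⟨_, _, _, ?_, support_pullback_subset _ _, ha, hb, ?_⟩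
  · have hq : Coh.IsQCoh ((Scheme.Modules.pushforward hU.fromSpec).obj (F.restrict hU.fromSpec)) :=
      isQCoh_push hU.fromSpec (restrict_isQCoh F hF.1 _)
    have e := (Abelian.PullbackToBiproductIsKernel.isLimitPullbackToBiproduct a
      ((restrictAdjunction hU.fromSpec).unit.app F)).conePointUniqueUpToIso (kernelIsKernel _)
    exact isCoh_of_iso e.symm (isCoh_kernel _ (isCoh_biprod hG hF) hq)
  · -- compose with `F_y ≅ G_y ≅ H_y` to get an injective endomorphism of an Artinian module
    let e₁ := LinearEquiv.ofBijective _ ha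
    have hinj : Function.Injective ((stalkLin (pullback.snd a
        ((restrictAdjunction hU.fromSpec).unit.app F)) y).comp (e.symm.trans e₁.symm).toLinearMap) :=
      hb.comp (e.symm.trans e₁.symm).injective
    have hsurj := IsArtinian.surjective_of_injective_endomorphism _ hinj
    exact Function.Surjective.of_comp (g := (e.symm.trans e₁.symm)) hsurj

/-- A finite module killed by the maximal ideal is isomorphic to a finite power of any given simple module. -/
theorem linearEquiv_of_killed {R : Type u} [CommRing R] [IsLocalRing R] (M S : Type u) [AddCommGroup M]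
    [Module R M] [AddCommGroup S] [Module R S] [Module.Finite R M] (hS : IsSimpleModule R S)
    (hM : ∀ r ∈ IsLocalRing.maximalIdeal R, ∀ m : M, r • m = 0) :
    ∃ n : ℕ, Nonempty (M ≃ₗ[R] (Fin n → S)) := by
  have htor : Module.IsTorsionBySet R M (IsLocalRing.maximalIdeal R) := fun m r => hM r.1 r.2 m
  have hss : IsSemisimpleModule R M := by
    let _ := htor.module
    have hf : IsSemisimpleModule (R ⧸ IsLocalRing.maximalIdeal R) M := by
      let _ : Field (R ⧸ IsLocalRing.maximalIdeal R) := Ideal.Quotient.field _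
      infer_instance
    exact htor.isSemisimpleModule_iff.1 hf
  refine IsIsotypicOfType.linearEquiv_fun (S := S) (fun N hN => ?_)
  obtain ⟨I, hI, ⟨e⟩⟩ := isSimpleModule_iff_quot_maximal.mp hN
  obtain ⟨J, hJ, ⟨f⟩⟩ := isSimpleModule_iff_quot_maximal.mp hS
  obtain rfl := IsLocalRing.eq_maximalIdeal hI
  obtain rfl := IsLocalRing.eq_maximalIdeal hJ
  exact ⟨e.trans f.symm⟩

/-- The stalk at `y` of a quasi-coherent module killed by the ideal of the closure of `y` is killed by the
maximal ideal. -/
theorem stalk_killed {y : X} {G : X.Modules} (hG : Coh.IsQCoh G)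
    (hk : ClSub.KilledByIdeal (Scheme.IdealSheafData.vanishingIdeal ⟨closure {y}, isClosed_closure⟩) G)
    (r : X.presheaf.stalk y) (hr : r ∈ IsLocalRing.maximalIdeal (X.presheaf.stalk y))
    (m : G.presheaf.stalk y) : r • m = 0 := by
  obtain ⟨U, hU, hy, -⟩ := exists_isAffineOpen_mem_and_subset (X := X) (x := y) (U := ⊤) trivial
  let _ : Algebra Γ(X, U) (X.presheaf.stalk y) := (X.presheaf.germ U y hy).hom.toAlgebra
  have hring : IsLocalization.AtPrime (X.presheaf.stalk y) (hU.primeIdealOf ⟨y, hy⟩).asIdeal :=
    hU.isLocalization_stalk ⟨y, hy⟩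
  obtain ⟨g, s, hg, hs⟩ := exists_germ_eq_smul G hU hG y hy m
  have hu : IsUnit (X.presheaf.germ U y hy g) := (X.mem_basicOpen g y hy).mp hg
  obtain ⟨⟨a, b⟩, hab⟩ := IsLocalization.surj (hU.primeIdealOf ⟨y, hy⟩).asIdeal.primeCompl r
  -- `a` lies in the prime ideal of `y`
  have ha : a ∈ (hU.primeIdealOf ⟨y, hy⟩).asIdeal := by
    have h1 : algebraMap Γ(X, U) (X.presheaf.stalk y) a ∈ IsLocalRing.maximalIdeal (X.presheaf.stalk y) := by
      rw [← hab]
      exact Ideal.mul_mem_right _ _ hr
    exact (IsLocalization.AtPrime.to_map_mem_maximal_iff (X.presheaf.stalk y)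
      (hU.primeIdealOf ⟨y, hy⟩).asIdeal a inferInstance).1 h1
  -- hence it is in the ideal of the closure of `y`
  have ha' : a ∈ (Scheme.IdealSheafData.vanishingIdeal
      (⟨closure {y}, isClosed_closure⟩ : Closeds X)).ideal ⟨U, hU⟩ := by
    rw [Scheme.IdealSheafData.vanishingIdeal_ideal]
    refine (PrimeSpectrum.mem_vanishingIdeal _ _).2 fun q hq => ?_
    have h2 : y ⤳ hU.fromSpec q := specializes_iff_mem_closure.2 hq
    have h3 : hU.fromSpec (hU.primeIdealOf ⟨y, hy⟩) ⤳ hU.fromSpec q := by
      rwa [hU.fromSpec_primeIdealOf ⟨y, hy⟩]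
    have h4 : hU.primeIdealOf ⟨y, hy⟩ ⤳ q :=
      (hU.fromSpec.isOpenEmbedding.isInducing.specializes_iff).1 h3
    exact ((PrimeSpectrum.le_iff_specializes _ _).2 h4) ha
  have h5 : a • s = 0 := hk ⟨U, hU⟩ a ha' s
  have hb : IsUnit (algebraMap Γ(X, U) (X.presheaf.stalk y) b) := IsLocalization.map_units _ b
  have key : (algebraMap Γ(X, U) (X.presheaf.stalk y) b) • (r • m) =
      (algebraMap Γ(X, U) (X.presheaf.stalk y) a) • m := by
    rw [← mul_smul, mul_comm]
    exact congrArg (· • m) hab
  apply hb.smul_left_cancel.mp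
  rw [key, smul_zero]
  apply hu.smul_left_cancel.mp
  rw [smul_zero, ← mul_smul, mul_comm, mul_smul, ← hs]
  have h6 : (X.presheaf.germ U y hy a) • (G.presheaf.germ U y hy s) = G.presheaf.germ U y hy (a • s) :=
    (germ_smul y hy a s).symm
  refine h6.trans ?_
  rw [h5]
  exact map_zero _

/-- The stalk of a finite power. -/
theorem nonempty_stalk_power (S : X.Modules) (n : ℕ) (y : X) :
    Nonempty ((∐ fun _ : Fin n => S).presheaf.stalk y ≃ₗ[X.presheaf.stalk y]
      (Fin n → S.presheaf.stalk y)) := by
  classical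
  have h1 := CycB.LFCoprod2.stalkSigmaEquiv (fun _ : Fin n => S) y Finset.univ
    (fun j hj => absurd (Finset.mem_univ j) hj)
  exact ⟨h1.trans (LinearEquiv.funCongrLeft (X.presheaf.stalk y) (S.presheaf.stalk y)
    ((Equiv.Set.univ (Fin n)).symm.trans (Equiv.subtypeEquivRight (by simp))))⟩

end K44.DevSummand
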