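import Groth.Agent.Coherent.K44.DegLeray
import Groth.Agent.CohtopA.Flasque
import Groth.Agent.CohtopA.PushExact
import Groth.Agent.Ega3B.RpushAbCmp

/-!
# Higher direct images of abelian sheaves along a composite

* `acyc_push_of_injective` : `f_* I` is `g_*`-acyclic for an injective abelian sheaf `I`.
* `rpushAb_comp_of_acyc`   : `R^p g_* (f_* F) ≅ R^p (f ≫ g)_* F` if `F` is `f_*`-acyclic.
* `rpushAb_comp_of_acyc_all` : `R^p (f ≫ g)_* F ≅ g_* R^p f_* F` if all `R^q f_* F` are `g_*`-acyclic.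
-/

set_option autoImplicit false
universe u

open CategoryTheory CategoryTheory.Limits AlgebraicGeometry Opposite TopologicalSpace

namespace K44.PushComp

open Groth.Agent Groth.Agent.Etcore Groth.Agent.Ega3B.RpushAbCmp

variable {X Y Z : Scheme.{u}} (f : X ⟶ Y) (g : Y ⟶ Z)

theorem acyc_push_of_injective (I : Sheaf (Opens.grothendieckTopology X) AddCommGrpCat.{u})
    (hI : Injective I) : DerLES.Acyc (Coh.pushAb g) ((Coh.pushAb f).obj I) := by
  intro q
  have h1 : TopCat.Sheaf.IsFlasque (X := X.toTopCat) I :=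
    CohtopA.Flasque.isFlasque_of_injective (X := X.toTopCat) I
  have h2 : TopCat.Sheaf.IsFlasque (X := Y.toTopCat) ((Coh.pushAb f).obj I) :=
    inferInstanceAs (TopCat.Sheaf.IsFlasque ((TopCat.Sheaf.pushforward AddCommGrpCat.{u} f.base).obj I))
  exact CohtopA.PushExact.isZero_Rpush_of_isFlasque (X := Y.toTopCat) (Y := Z.toTopCat) g.base
    ((Coh.pushAb f).obj I) q

theorem rpushAb_comp_of_acyc (F : Sheaf (Opens.grothendieckTopology X) AddCommGrpCat.{u})
    (hF : DerLES.Acyc (Coh.pushAb f) F) (p : ℕ) :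
    Nonempty ((Coh.RpushAb g p).obj ((Coh.pushAb f).obj F) ≅ (Coh.RpushAb (f ≫ g) p).obj F) :=
  K44.DegLeray.comp_of_acyc (Coh.pushAb f) (Coh.pushAb g) (acyc_push_of_injective f g) p F hF

theorem rpushAb_comp_of_acyc_all (F : Sheaf (Opens.grothendieckTopology X) AddCommGrpCat.{u})
    (hF : ∀ q : ℕ, DerLES.Acyc (Coh.pushAb g) ((Coh.RpushAb f q).obj F)) (p : ℕ) :
    Nonempty ((Coh.RpushAb (f ≫ g) p).obj F ≅ (Coh.pushAb g).obj ((Coh.RpushAb f p).obj F)) := by
  have h0 : DerLES.Acyc (Coh.pushAb g) ((Coh.pushAb f).obj F) :=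
    (hF 0).of_iso (Coh.pushAb g) ((Coh.pushAb f).rightDerivedZeroIsoSelf.app F)
  exact K44.DegLeray.comp_of_acyc_all (Coh.pushAb f) (Coh.pushAb g) (acyc_push_of_injective f g) p F h0
    (fun q => hF (q + 1))

end K44.PushComp
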