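import Groth.Agent.S0055
import Groth.Agent.S0786
import Groth.Agent.S2355
import Groth.Agent.S4456
import Groth.Agent.CycB.C1Pull
import Groth.Agent.Ega1.ProperSupp
import Groth.Agent.CohqB.FinAmple
import Groth.Agent.Fga.TwistCoh
import Groth.Agent.Fga.HShift
import Groth.Agent.PerfB.TensExact
import Groth.Agent.PerfB.TensInv
import Groth.Agent.CohqA.AffMorCrit
import Groth.Agent.Ega3B.DevQC
import Groth.Agent.FormalB.KQuot
import Groth.Prelude.Def_LCI2

/-!
# Relative Serre vanishing for coherent modules with proper support, and exactness of direct images of twists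

* `isZero_RpushAb_twist` : `R^p f_* (K ⊗ L^n) = 0` for `p > 0`, `n ≫ 0`, `K` coherent and killed by an ideal
  with `V(J)` proper over the Noetherian base, `L` relatively ample.
* `push_exact_of_isZero` : `f_*` preserves the exactness of `X₁ → X₂ → X₃` if `R^1 f_*` of the kernel of
  `X₁ → X₂` vanishes.
* `exists_exact` : the two together.
-/

set_option autoImplicit false
universe u

open CategoryTheory CategoryTheory.Limits AlgebraicGeometry Opposite TopologicalSpace

namespace K44.RelAmpleVan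

open Groth.Agent

variable {X Y : Scheme.{u}}

/-- Closed immersions are quasi-affine. -/
theorem isQuasiAffine_of_isAffineHom (g : X ⟶ Y) [IsAffineHom g] : Mor2.IsQuasiAffine g :=
  ⟨inferInstance, fun V hV => by
    have : IsAffine (g ⁻¹ᵁ V : Scheme.{u}) := hV.preimage g
    infer_instance⟩

/-- Relative Serre vanishing for proper support. -/
theorem isZero_RpushAb_twist (f : X ⟶ Y) [IsNoetherian Y] [LocallyOfFiniteType f] [QuasiCompact f]
    (L : X.Modules) (hL : PicF.IsInvertible L) (hamp : RelAmple.IsRelAmple f L) (K : X.Modules)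
    (hK : Coh.IsCoh K) (J : X.IdealSheafData) (hJ : ClSub.KilledByIdeal J K)
    (hJp : IsProper (J.subschemeι ≫ f)) :
    ∃ N : ℕ, ∀ n : ℕ, N ≤ n → ∀ p : ℕ, 0 < p →
      IsZero ((Coh.RpushAb f p).obj (Coh.toAb (CohB1.tensorMod K (CohB1.tensorPow L n)))) := by
  have hX : IsLocallyNoetherian X := LocallyOfFiniteType.isLocallyNoetherian f
  obtain ⟨G, hG, ⟨e⟩⟩ := S0786.result J.subschemeι K hK
    (by rw [Scheme.IdealSheafData.ker_subschemeι]; exact hJ)
  have hL' : PicF.IsInvertible ((Scheme.Modules.pullback J.subschemeι).obj L) :=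
    CycB.C1Pull.isInvertible_pullback J.subschemeι hL
  have hamp' : RelAmple.IsRelAmple (J.subschemeι ≫ f) ((Scheme.Modules.pullback J.subschemeι).obj L) :=
    S2355.result f J.subschemeι (isQuasiAffine_of_isAffineHom _) L hamp
  obtain ⟨N, hN⟩ := S0055.result (J.subschemeι ≫ f) _ hL' (fun W hW => hamp'.2 ⟨W, hW⟩) G hG
  refine ⟨N, fun n hn p hp => ?_⟩
  obtain ⟨e₁⟩ := CohqB.FinAmple.nonempty_push_tw J.subschemeι hL G n
  have hq : Coh.IsQCoh (CohB1.tensorMod G
      (CohB1.tensorPow ((Scheme.Modules.pullback J.subschemeι).obj L) n)) :=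
    (Fga.TwistCoh.isCoh_tensor hG (Fdesc.LocGen.isInvertible_tensorPow hL' n)).1
  obtain ⟨e₂⟩ := S4456.result J.subschemeι f (CohB1.tensorMod G
      (CohB1.tensorPow ((Scheme.Modules.pullback J.subschemeι).obj L) n)) p
  have e₃ : (DCoh.tensorRightMod (CohB1.tensorPow L n)).obj K ≅
      (DCoh.tensorRightMod (CohB1.tensorPow L n)).obj ((Scheme.Modules.pushforward J.subschemeι).obj G) :=
    (DCoh.tensorRightMod (CohB1.tensorPow L n)).mapIso e.symm
  have e₄ : CohB1.tensorMod K (CohB1.tensorPow L n) ≅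
      CohB1.tensorMod ((Coh.push J.subschemeι).obj G) (CohB1.tensorPow L n) := e₃
  have e₅ : CohB1.tensorMod K (CohB1.tensorPow L n) ≅ (Coh.push J.subschemeι).obj (CohB1.tensorMod G
      (CohB1.tensorPow ((Scheme.Modules.pullback J.subschemeι).obj L) n)) := e₄ ≪≫ e₁
  exact (hN n hn p hp).of_iso ((Coh.RpushAb f p).mapIso ((Fga.HShift.shAb X).mapIso e₅) ≪≫ e₂)

/-- A left exact functor preserves the exactness of `X₁ → X₂ → X₃` if the image of `X₁ → ker` stays epi. -/
theorem exact_of_epi {C D : Type*} [Category C] [Category D] [Abelian C] [Abelian D] (F : C ⥤ D) [F.Additive]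
    [PreservesFiniteLimits F] (S : ShortComplex C)
    (h : Epi (F.map (kernel.lift S.g S.f S.zero))) : (S.map F).Exact := by
  rw [ShortComplex.exact_iff_epi_kernel_lift]
  have h2 : kernel.lift (S.map F).g (S.map F).f (S.map F).zero =
      F.map (kernel.lift S.g S.f S.zero) ≫ kernelComparison S.g F :=
    (map_lift_kernelComparison S.g F S.zero).symm
  rw [h2]
  have h3 : IsIso (kernelComparison S.g F) := inferInstance
  have h4 : Epi (kernelComparison S.g F) := IsIso.epi_of_iso _
  exact epi_comp' h h4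

theorem shortExact_kernel_ι {C : Type*} [Category C] [Abelian C] {M N : C} (φ : M ⟶ N) [Epi φ] :
    (ShortComplex.mk (kernel.ι φ) φ (kernel.condition φ)).ShortExact where
  exact := ShortComplex.exact_kernel φ
  mono_f := inferInstanceAs (Mono (kernel.ι φ))
  epi_g := ‹_›

theorem nonempty_kernel_iso {C : Type*} [Category C] [Abelian C] (S : ShortComplex C) :
    Nonempty (kernel S.f ≅ kernel (kernel.lift S.g S.f S.zero)) :=
  ⟨kernelIsoOfEq (kernel.lift_ι S.g S.f S.zero).symm ≪≫ kernelCompMono _ (kernel.ι S.g)⟩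

/-- `f_*` of an epimorphism whose kernel has no `R^1 f_*`. -/
theorem epi_push_map (f : X ⟶ Y) {S : ShortComplex X.Modules} (hS : S.ShortExact)
    (h : IsZero ((Coh.RpushAb f 1).obj (Coh.toAb S.X₁))) : Epi ((Coh.push f).map S.g) := by
  have hS' : (S.map (CohqA.H1Lift.toAbF X)).ShortExact := CohqB.DevSupport.shortExact_map_toAbF hS
  have h1 : Epi ((Coh.pushAb f).map (S.map (CohqA.H1Lift.toAbF X)).g) :=
    EtpbcB.RDerLES.epi_map_g (Coh.pushAb f) (S := S.map (CohqA.H1Lift.toAbF X)) hS' h
  have h2 : Epi ((CohqA.H1Lift.toAbF Y).map ((Coh.push f).map S.g)) := h1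
  exact (CohqA.H1Lift.toAbF Y).epi_of_epi_map h2

/-- Exactness of `f_* X₁ → f_* X₂ → f_* X₃`. -/
theorem push_exact_of_isZero (f : X ⟶ Y) (D : ShortComplex X.Modules) (hD : D.Exact)
    (h : IsZero ((Coh.RpushAb f 1).obj (Coh.toAb (kernel D.f)))) :
    (D.map (Coh.push f)).Exact := by
  have hadd : (Coh.push f).Additive := inferInstanceAs (Scheme.Modules.pushforward f).Additive
  have hlim : PreservesFiniteLimits (Coh.push f) := by
    have h1 : PreservesLimitsOfSize.{u, u} (Scheme.Modules.pushforward f) :=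
      (Scheme.Modules.pullbackPushforwardAdjunction f).rightAdjoint_preservesLimits
    exact h1.preservesFiniteLimits
  have hφ : Epi (kernel.lift D.g D.f D.zero) := D.exact_iff_epi_kernel_lift.1 hD
  have hS := shortExact_kernel_ι (kernel.lift D.g D.f D.zero)
  obtain ⟨e⟩ := nonempty_kernel_iso D
  have h0 : IsZero ((Coh.RpushAb f 1).obj (Coh.toAb (kernel (kernel.lift D.g D.f D.zero)))) :=
    h.of_iso ((Coh.RpushAb f 1).mapIso ((Fga.HShift.shAb X).mapIso e.symm))
  have h1 : Epi ((Coh.push f).map (kernel.lift D.g D.f D.zero)) := epi_push_map f hS h0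
  exact exact_of_epi (Coh.push f) D h1

/-- **Exactness of the direct images of high twists.** -/
theorem exists_exact (f : X ⟶ Y) [IsNoetherian Y] [LocallyOfFiniteType f] [QuasiCompact f]
    (L : X.Modules) (hL : PicF.IsInvertible L) (hamp : RelAmple.IsRelAmple f L)
    (C : ShortComplex X.Modules) (hC : C.Exact) (h1 : Coh.IsCoh C.X₁) (h2 : Coh.IsQCoh C.X₂)
    (hs1 : ClSub.IsProperOver f (CohB1.support C.X₁)) :
    ∃ N : ℕ, ∀ n : ℕ, N ≤ n →
      (C.map (DCoh.tensorRightMod (CohB1.tensorPow L n) ⋙ Coh.push f)).Exact := by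
  have hX : IsLocallyNoetherian X := LocallyOfFiniteType.isLocallyNoetherian f
  obtain ⟨J, hJ, -, hJp⟩ := Ega1.ProperSupp.exists_common_proper Y f C.X₁ C.X₁ h1 h1 hs1 hs1
  have hK : Coh.IsCoh (kernel C.f) := Ega3B.DevQC.isCoh_kernel C.f h1 h2
  obtain ⟨N, hN⟩ := isZero_RpushAb_twist f L hL hamp (kernel C.f) hK J
    (FormalB.KQuot.killedByIdeal_of_mono (kernel.ι C.f) hJ) hJp
  refine ⟨N, fun n hn => ?_⟩
  have hfl : PreservesFiniteLimits (DCoh.tensorRightMod (CohB1.tensorPow L n)) :=
    PerfB.TensInv.preservesFiniteLimits_of_isInvertible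
      (Fdesc.LocGen.isInvertible_tensorPow hL n)
  have hD : (C.map (DCoh.tensorRightMod (CohB1.tensorPow L n))).Exact := hC.map _
  have hz : IsZero ((Coh.RpushAb f 1).obj (Coh.toAb
      (kernel (C.map (DCoh.tensorRightMod (CohB1.tensorPow L n))).f))) :=
    (hN n hn 1 one_pos).of_iso ((Coh.RpushAb f 1).mapIso ((Fga.HShift.shAb X).mapIso
      (PreservesKernel.iso (DCoh.tensorRightMod (CohB1.tensorPow L n)) C.f).symm))
  exact push_exact_of_isZero f (C.map (DCoh.tensorRightMod (CohB1.tensorPow L n))) hD hz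

end K44.RelAmpleVan
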