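import Groth.Agent.Ega3B.TensorAUnit
import Groth.Agent.PerfB.TensExact
import Groth.Prelude.Def_Formal

/-!
# `F ⊗_A A/J` is `F/JF`

* `exists_iso` : `F/JF ≅ (tensorAFunctor A F) (A/J)`, compatibly with the projections from `F`.
-/

set_option autoImplicit false
universe u

open CategoryTheory CategoryTheory.Limits AlgebraicGeometry Opposite

namespace K44.TensorQuot

open Groth.Agent Groth.Agent.Ega3B.TensorAUnit

variable {A : Type u} [CommRing A] {X : Scheme.{u}} [X.Over (Spec (CommRingCat.of A))]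

instance preservesColimits_tensorA (F : X.Modules) :
    PreservesColimitsOfSize.{u, u} (CohIII.tensorAFunctor A F) := by
  have h1 : PreservesColimitsOfSize.{u, u} (tilde.functor (CommRingCat.of A)) :=
    (tilde.adjunction (R := CommRingCat.of A)).leftAdjoint_preservesColimits
  have h2 : PreservesColimitsOfSize.{u, u}
      (Scheme.Modules.pullback (X ↘ Spec (CommRingCat.of A))) :=
    (Scheme.Modules.pullbackPushforwardAdjunction _).leftAdjoint_preservesColimits
  have h3 : PreservesColimitsOfSize.{u, u} (DCoh.tensorRightMod F) := inferInstance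
  have h4 : PreservesColimitsOfSize.{u, u} (Scheme.Modules.pullback (X ↘ Spec (CommRingCat.of A)) ⋙
    DCoh.tensorRightMod F) := inferInstance
  exact comp_preservesColimits _ _

/-- the family `J × A → A` -/
noncomputable def cMap (J : Ideal A) : (∐ fun _ : J => ModuleCat.of A A) ⟶ ModuleCat.of A A :=
  Sigma.desc fun a => (a : A) • 𝟙 (ModuleCat.of A A)

/-- the projection `A → A/J` -/
noncomputable def qMap (J : Ideal A) : ModuleCat.of A A ⟶ ModuleCat.of A (A ⧸ J) :=
  ModuleCat.ofHom (Submodule.mkQ J)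

theorem cMap_qMap (J : Ideal A) : cMap J ≫ qMap J = 0 := by
  refine Sigma.hom_ext _ _ fun a => ?_
  rw [cMap, Sigma.ι_desc_assoc, comp_zero]
  refine ModuleCat.hom_ext (LinearMap.ext fun x => ?_)
  change Submodule.Quotient.mk ((a : A) * x) = 0
  rw [Submodule.Quotient.mk_eq_zero]
  exact J.mul_mem_right _ a.2

instance epi_qMap (J : Ideal A) : Epi (qMap J) :=
  (ModuleCat.epi_iff_surjective _).2 (Submodule.mkQ_surjective J)

theorem exact_pres (J : Ideal A) : (ShortComplex.mk (cMap J) (qMap J) (cMap_qMap J)).Exact := by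
  rw [ShortComplex.moduleCat_exact_iff]
  intro (x : A) hx
  have hxJ : x ∈ J := (Submodule.Quotient.mk_eq_zero J).1 hx
  refine ⟨(Sigma.ι (fun _ : J => ModuleCat.of A A) ⟨x, hxJ⟩).hom (1 : A), ?_⟩
  have h := congr(($(Sigma.ι_desc (fun a : J => (a : A) • 𝟙 (ModuleCat.of A A)) ⟨x, hxJ⟩)).hom (1 : A))
  refine h.trans ?_
  change x * 1 = x
  exact mul_one x

theorem exact_pres_map (J : Ideal A) (F : X.Modules) :
    ((ShortComplex.mk (cMap J) (qMap J) (cMap_qMap J)).map (CohIII.tensorAFunctor A F)).Exact := by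
  have : Epi (ShortComplex.mk (cMap J) (qMap J) (cMap_qMap J)).g := epi_qMap J
  exact (exact_pres J).map_of_epi_of_preservesCokernel _ inferInstance inferInstance

instance epi_map_qMap (J : Ideal A) (F : X.Modules) :
    Epi ((CohIII.tensorAFunctor A F).map (qMap J)) := inferInstance

theorem map_cMap_comp (J : Ideal A) (F : X.Modules) :
    (CohIII.tensorAFunctor A F).map (cMap J) ≫
      ((unitIso F).hom ≫ cokernel.π (Formal.smulFamily J F)) = 0 := by
  have hiso : IsIso (sigmaComparison (CohIII.tensorAFunctor A F) fun _ : J => ModuleCat.of A A) :=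
    inferInstance
  rw [← cancel_epi (sigmaComparison (CohIII.tensorAFunctor A F) fun _ : J => ModuleCat.of A A)]
  refine Sigma.hom_ext _ _ fun a => ?_
  rw [comp_zero, comp_zero, ι_comp_sigmaComparison_assoc, ← Functor.map_comp_assoc, cMap, Sigma.ι_desc,
    reassoc_of% (unitIso_smul (A := A) F (a : A))]
  have h1 : Sigma.ι (fun _ : J => F) a ≫ Formal.smulFamily J F = Formal.smulMod A F (a : A) :=
    Sigma.ι_desc _ _
  rw [← h1, Category.assoc, cokernel.condition, comp_zero, comp_zero]

theorem smulFamily_comp (J : Ideal A) (F : X.Modules) :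
    Formal.smulFamily J F ≫ ((unitIso F).inv ≫ (CohIII.tensorAFunctor A F).map (qMap J)) = 0 := by
  refine Sigma.hom_ext _ _ fun a => ?_
  have h1 : Sigma.ι (fun _ : J => F) a ≫ Formal.smulFamily J F = Formal.smulMod A F (a : A) :=
    Sigma.ι_desc _ _
  rw [comp_zero, reassoc_of% h1]
  have h2 : Formal.smulMod A F (a : A) ≫ (unitIso F).inv =
      (unitIso F).inv ≫ (CohIII.tensorAFunctor A F).map ((a : A) • 𝟙 (ModuleCat.of A A)) := by
    rw [Iso.eq_inv_comp, ← Category.assoc, ← unitIso_smul, Category.assoc, Iso.hom_inv_id,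
      Category.comp_id]
  rw [reassoc_of% h2, ← Functor.map_comp]
  have h3 : ((a : A) • 𝟙 (ModuleCat.of A A)) ≫ qMap J = 0 := by
    refine ModuleCat.hom_ext (LinearMap.ext fun x => ?_)
    change Submodule.Quotient.mk ((a : A) * x) = 0
    rw [Submodule.Quotient.mk_eq_zero]
    exact J.mul_mem_right _ a.2
  rw [h3]
  have : (CohIII.tensorAFunctor A F).PreservesZeroMorphisms := inferInstance
  rw [Functor.map_zero, comp_zero]

/-- **`F/JF ≅ F ⊗_A A/J`.** -/
theorem exists_iso (J : Ideal A) (F : X.Modules) :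
    ∃ e : cokernel (Formal.smulFamily J F) ≅
        (CohIII.tensorAFunctor A F).obj (ModuleCat.of A (A ⧸ J)),
      cokernel.π (Formal.smulFamily J F) ≫ e.hom =
        (unitIso F).inv ≫ (CohIII.tensorAFunctor A F).map (qMap J) := by
  have hex := exact_pres_map J F
  have hepi : Epi ((ShortComplex.mk (cMap J) (qMap J) (cMap_qMap J)).map
    (CohIII.tensorAFunctor A F)).g := epi_map_qMap J F
  let hcok := hex.gIsCokernel
  let ψ : (CohIII.tensorAFunctor A F).obj (ModuleCat.of A (A ⧸ J)) ⟶
      cokernel (Formal.smulFamily J F) :=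
    hcok.desc (CokernelCofork.ofπ ((unitIso F).hom ≫ cokernel.π (Formal.smulFamily J F))
      (map_cMap_comp J F))
  have hψ : (CohIII.tensorAFunctor A F).map (qMap J) ≫ ψ =
      (unitIso F).hom ≫ cokernel.π (Formal.smulFamily J F) :=
    hcok.fac _ WalkingParallelPair.one
  refine ⟨⟨cokernel.desc _ _ (smulFamily_comp J F), ψ, ?_, ?_⟩, cokernel.π_desc _ _ _⟩
  · rw [← cancel_epi (cokernel.π (Formal.smulFamily J F)), cokernel.π_desc_assoc, Category.assoc, hψ,
      Iso.inv_hom_id_assoc, Category.comp_id]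
  · rw [← cancel_epi ((CohIII.tensorAFunctor A F).map (qMap J)), reassoc_of% hψ, cokernel.π_desc,
      Iso.hom_inv_id_assoc, Category.comp_id]

end K44.TensorQuot
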